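import Cfsg.Agent.DnPres.Presentation
import Cfsg.Agent.SLnPres.Final
import Cfsg.Agent.Forms4.POmegaOrders
import Cfsg.Agent.PresLib.Quotient
import Cfsg.Agent.BoundedAlt.Tietze

/-!
# Bounded presentations of `Ω⁺₂ₙ` and `PΩ⁺₂ₙ`
-/

set_option autoImplicit false

namespace CfsgLib.DnPres

open CfsgLib.SLnPres CfsgLib.BoundedAlt CfsgLib.StdForms CfsgLib.Forms4 CfsgLib.Forms CfsgLib.Spinor

variable {F : Type*} [Field F] [Fintype F]

theorem exists_center' (n : ℕ) (hn : 3 ≤ n) : ∃ z : ↥(Cfsg.Omega F ⇑(plusQ n F)),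
    Subgroup.normalClosure {z} = Subgroup.center ↥(Cfsg.Omega F ⇑(plusQ n F)) := by
  classical
  have hiff := TwoPairs.mem_center_omega_iff (plusQ_nondegenerate (F := F) n) (by simp; omega)
    (plusPairs n (by omega))
  by_cases h : ∃ g : ↥(Cfsg.Omega F ⇑(plusQ n F)), mat (plusQ n F) g.1 = -1
  · obtain ⟨g, hg⟩ := h
    refine ⟨g, le_antisymm (Subgroup.normalClosure_le_normal ?_) fun x hx => ?_⟩
    · rintro _ rfl
      exact (hiff _).2 ⟨-1, by ring, by rw [hg, neg_smul, one_smul]⟩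
    · obtain ⟨r, hr, hxr⟩ := (hiff x).1 hx
      rcases mul_self_eq_one_iff.1 hr with rfl | rfl
      · have : x = 1 := Subtype.ext (mat_ext _ (by rw [hxr, one_smul, Subgroup.coe_one, mat_one]))
        rw [this]; exact one_mem _
      · have : x = g := Subtype.ext (mat_ext _ (by rw [hxr, neg_smul, one_smul, hg]))
        rw [this]; exact Subgroup.subset_normalClosure rfl
  · refine ⟨1, le_antisymm (Subgroup.normalClosure_le_normal ?_) fun x hx => ?_⟩
    · rintro _ rfl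
      exact one_mem _
    · obtain ⟨r, hr, hxr⟩ := (hiff x).1 hx
      rcases mul_self_eq_one_iff.1 hr with rfl | rfl
      · have : x = 1 := Subtype.ext (mat_ext _ (by rw [hxr, one_smul, Subgroup.coe_one, mat_one]))
        rw [this]; exact one_mem _
      · exact absurd ⟨x, by rw [hxr, neg_smul, one_smul]⟩ h

theorem exists_center (n : ℕ) (hn : 3 ≤ n) : ∃ z : ↥(Cfsg.Omega F (Cfsg.quadFormPlus n F)),
    Subgroup.normalClosure {z} = Subgroup.center ↥(Cfsg.Omega F (Cfsg.quadFormPlus n F)) := by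
  have h := exists_center' (F := F) n hn
  rwa [coe_plusQ] at h

theorem pOmega_of_omega {n g N : ℕ} (hn : 3 ≤ n) (rels : Finset (FreeGroup (Fin g))) (hc : rels.card ≤ N)
    (e : PresentedGroup (↑rels : Set (FreeGroup (Fin g))) ≃* ↥(Cfsg.Omega F (Cfsg.quadFormPlus n F))) :
    ∃ rels' : Finset (FreeGroup (Fin g)), rels'.card ≤ N + 1 ∧
      Nonempty (PresentedGroup (↑rels' : Set (FreeGroup (Fin g))) ≃* Cfsg.POmega F (Cfsg.quadFormPlus n F)) := by
  obtain ⟨z, hz⟩ := exists_center (F := F) n hn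
  obtain ⟨w, hw⟩ := PresentedGroup.mk_surjective _ (e.symm z)
  exact CfsgLib.PresLib.presentation_quotient rels N hc e _ w (by rw [hw, MulEquiv.apply_symm_apply, hz])

/-- `Ω⁺₂ₙ` on eight generators. -/
theorem presentation_eight (p : ℕ) [Fact p.Prime] [Algebra (ZMod p) F] {n : ℕ} (hn : 4 ≤ n) :
    ∃ rels : Finset (FreeGroup (Fin 8)), rels.card ≤ (if n ≤ 5 then 29 else 31) ∧
      Nonempty (PresentedGroup (↑rels : Set (FreeGroup (Fin 8))) ≃* ↥(Cfsg.Omega F (Cfsg.quadFormPlus n F))) := by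
  obtain ⟨k, rfl⟩ : ∃ k, n = k + 4 := ⟨n - 4, by omega⟩
  obtain ⟨m, N, relsS, hcase, hc, he⟩ := exists_SL_parts (F := F) p (r := k + 1) (by omega)
  rw [show 3 + (k + 1) = k + 4 by omega] at he
  obtain ⟨eS⟩ := he
  obtain ⟨R, hR, ⟨e⟩⟩ := exists_presentation relsS hc eS
  rcases hcase with ⟨-, rfl, hh⟩ | ⟨hk, rfl, rfl⟩
  · obtain ⟨R1, hR1, ⟨e1⟩⟩ := retarget_pad R hR e
    obtain ⟨R2, hR2, he2⟩ := retarget_pad R1 hR1 e1
    refine ⟨R2, hR2.trans ?_, he2⟩
    rcases hh with ⟨hk, rfl⟩ | ⟨hk, rfl⟩ | ⟨hk, rfl⟩ <;> split_ifs <;> omega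
  · obtain ⟨R1, hR1, he1⟩ := retarget_pad R hR e
    refine ⟨R1, hR1.trans ?_, he1⟩
    split_ifs <;> omega

end CfsgLib.DnPres
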